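import Cfsg.Agent.Lib.FusionPIndex.Existence
import Cfsg.Agent.Lib.FusionChain.Alperin
import Cfsg.Agent.Lib.FusionChain.Hyperfocal

/-
A saturated subsystem of `p`-power index over a normal subgroup `T ≥ hyp(F)` is normal.
Main result: `isNormalIn_pPowerIndex`.
-/

set_option autoImplicit false

namespace Cfsg.Agent.FusionPIndex

open Cfsg Cfsg.FusionSystem Cfsg.Agent.Fusion Cfsg.Agent.FusionChain
open scoped Classical

variable {Ω : Type*} [Group Ω] {S T : Subgroup Ω} [Finite S] {p : ℕ} [Fact p.Prime]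
  {F : FusionSystem S}

theorem stronglyClosed_of_normal (hS : IsPGroup p S) (hF : F.IsSaturated p) (hTS : T ≤ S)
    (hTn : (T.subgroupOf S).Normal) (hT : F.hyperfocalSubgroup p ≤ T) : F.StronglyClosed T := by
  refine ⟨hTS, fun R hR φ hφ x => ?_⟩
  obtain ⟨γ, hγ⟩ := FusionTate.exists_conj_mod_hyperfocal hS hF (QuotientGroup.mk' (T.subgroupOf S))
    (fun u hu => (QuotientGroup.eq_one_iff u).2 (hT hu)) (isMap_toFn hφ)
  let u : S := ⟨x, hTS (hR x.2)⟩
  let v : S := ⟨φ x, (F.le_of_mem hφ).2 x⟩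
  have h1 := hγ u v x.2 (toFn_coe φ x).symm
  have h2 : γ * u * γ⁻¹ ∈ T.subgroupOf S := hTn.conj_mem u (hR x.2) γ
  exact (QuotientGroup.eq_one_iff v).1 (h1.trans ((QuotientGroup.eq_one_iff _).2 h2))

/-- Conjugation by an element of `S` as an automorphism of a normal subgroup. -/
theorem exists_conjAut (hTS : T ≤ S) (hTn : (T.subgroupOf S).Normal) {s : Ω} (hs : s ∈ S) :
    ∃ α ∈ F.autGroup T, ∀ x ∈ T, autFn α x = s * x * s⁻¹ := by
  have h := (IsMap.conj (F := F) hTS hs)
  have hmem : ∀ x ∈ T, s * x * s⁻¹ ∈ T := fun x hx => hTn.conj_mem ⟨x, hTS hx⟩ hx ⟨s, hs⟩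
  obtain ⟨α, hα, he⟩ := exists_aut_of_isIso (F := F) (P := T) (f := fun x => s * x * s⁻¹)
    ⟨h, eq_of_le_of_card hTS (h.img_le le_rfl hmem) (h.card_img le_rfl).ge⟩
  exact ⟨α, hα, fun x hx => (autFn_apply α hx).trans (he ⟨x, hx⟩)⟩

variable {E : FusionSystem T}

/-- Invariance under `Aut_F(T)`. -/
theorem transport_pPowerIndex (hS : IsPGroup p S) (hTS : T ≤ S) (hEs : E.IsSaturated p)
    (hEi : E.HasPPowerIndexIn F p) {α : MulAut T} (hα : α ∈ F.autGroup T) {P : Subgroup Ω}
    {f : Ω → Ω} (hf : IsMap E P f) :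
    ∃ g, IsMap E (img (autFn α) P) g ∧ ∀ x ∈ P, g (autFn α x) = autFn α (f x) := by
  haveI : Finite T := finite_of_le hTS
  have hT : IsPGroup p T := hS.to_le hTS
  have hαS : IsMap F T (autFn α) := (mem_autGroup_iff hTS).1 hα
  refine alperin_induction hT hEs
    (fun P f => ∃ g, IsMap E (img (autFn α) P) g ∧ ∀ x ∈ P, g (autFn α x) = autFn α (f x))
    ?_ ?_ ?_ ?_ hf
  · rintro P f f' - ⟨g, hg, hge⟩ he
    exact ⟨g, hg, fun x hx => by rw [hge x hx, he x hx]⟩
  · intro P P' f hf hle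
    rintro ⟨g, hg, hge⟩
    refine ⟨g, hg.mono ?_, fun x hx => hge x (hle hx)⟩
    exact (hαS.mono (hle.trans hf.le)).img_le le_rfl fun x hx => (hαS.mono hf.le).mem_img (hle hx)
  · rintro P P' f f' hf hf' hfP ⟨g, hg, hge⟩ ⟨g', hg', hge'⟩
    refine ⟨fun y => g' (g y), hg.comp hg' fun y hy => ?_, fun x hx => ?_⟩
    · obtain ⟨x, hx, rfl⟩ := (hαS.mem_img_iff hf.le).1 hy
      rw [hge x hx]
      exact (hαS.mono hf'.le).mem_img (hfP x hx)
    · show g' (g (autFn α x)) = _
      rw [hge x hx, hge' _ (hfP x hx)]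
  intro R hR _ _ a ha _
  have hRS := hR.1.trans hTS
  have hiso : IsIso F R (img (autFn α) R) (autFn α) := (hαS.mono hR.1).isIso
  have hQT : img (autFn α) R ≤ T := hαS.img_le hR.1 fun x hx => autFn_mem α (hR.1 hx)
  have := finite_mulAut (S := T) hR.1
  have hH : E.autGroup R ≤ (E.autGroup (img (autFn α) R)).comap
      (MulAut.congr hiso.equiv).toMonoidHom := by
    refine FusionNormal.autGroup_le_of_sylow_pResidual
      (isFullyAutomized_iff.1 (fullyAutomized_of_fullyNormalized hT hEs hR)).2 (fun b hb => ?_)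
      fun b hb hco => ?_
    · obtain ⟨t, ht, hbt⟩ := mem_autInducedBy_iff.1 hb
      refine autInducedBy_le_autGroup E (K := T) le_rfl hQT
        (mem_autInducedBy_iff.2 ⟨autFn α t, autFn_mem α ht, fun y => ?_⟩)
      obtain ⟨x, rfl⟩ := hiso.equiv.surjective y
      show ((MulAut.congr hiso.equiv b (hiso.equiv x) : img (autFn α) R) : Ω) = _
      rw [congr_apply_coe hiso b x, hbt x, hαS.map_conj ht (hR.1 x.2)]
      rfl
    · refine hEi.2.2 _ hQT (FusionNormal.mem_pResidual_map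
        (Fusion.congr_mem_autGroup hiso (FusionNormal.autGroup_le_of_sub hEi.1 hR.1 hb)) ?_)
      show (orderOf (MulAut.congr hiso.equiv b)).Coprime p
      rwa [MulEquiv.orderOf_eq]
  refine ⟨autFn (MulAut.congr hiso.equiv a), (mem_autGroup_iff hQT).1 (hH ha), fun x hx => ?_⟩
  rw [autFn_apply _ (hiso.mem hx), autFn_apply a hx]
  exact congr_apply_coe hiso a ⟨x, hx⟩

/-- The Frattini condition. -/
theorem frattini_pPowerIndex (hS : IsPGroup p S) (hF : F.IsSaturated p) (hTS : T ≤ S)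
    (hTn : (T.subgroupOf S).Normal) (hT : F.hyperfocalSubgroup p ≤ T) (hEs : E.IsSaturated p)
    (hEi : E.HasPPowerIndexIn F p) {P : Subgroup Ω} {f : Ω → Ω} (hf : IsMap F P f) :
    ∃ α ∈ F.autGroup T, ∃ f₀, IsMap E (P ⊓ T) f₀ ∧ ∀ x ∈ P ⊓ T, f x = autFn α (f₀ x) := by
  have hsc := stronglyClosed_of_normal hS hF hTS hTn hT
  let M : Subgroup Ω → (Ω → Ω) → Prop := fun P f =>
    ∃ α ∈ F.autGroup T, ∃ f₀, IsMap E (P ⊓ T) f₀ ∧ ∀ x ∈ P ⊓ T, f x = autFn α (f₀ x)
  have hcomp : ∀ P P' f g, IsMap F P f → (∀ x ∈ P, f x ∈ P') → M P f → M P' g →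
      M P (fun x => g (f x)) := by
    rintro P P' f g hf hfP ⟨α, hα, f₀, hf₀, he⟩ ⟨β, hβ, g₀, hg₀, he'⟩
    obtain ⟨k, hk, hke⟩ := transport_pPowerIndex hS hTS hEs hEi (inv_mem hα) hg₀
    have hmem : ∀ x ∈ P ⊓ T, f x ∈ P' ⊓ T := fun x hx => ⟨hfP x hx.1, by
      rw [he x hx]; exact autFn_mem α (hf₀.mem hx)⟩
    have hinv : ∀ x ∈ P ⊓ T, f₀ x = autFn α⁻¹ (f x) := fun x hx => by
      rw [he x hx, autFn_apply α (hf₀.mem hx), autFn_apply _ (α _).2, MulAut.inv_apply_self]
    refine ⟨β * α, mul_mem hβ hα, fun x => k (f₀ x), hf₀.comp hk fun x hx => ?_, fun x hx => ?_⟩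
    · rw [hinv x hx]
      exact Subgroup.subset_closure ⟨f x, hmem x hx, rfl⟩
    · show g (f x) = autFn (β * α) (k (f₀ x))
      rw [hinv x hx, hke _ (hmem x hx), he' _ (hmem x hx),
        autFn_apply α⁻¹ (hg₀.mem (hmem x hx)), autFn_apply (β * α) (α⁻¹ _).2,
        autFn_apply β (hg₀.mem (hmem x hx)), MulAut.mul_apply]
      simp
  refine alperin_induction hS hF M ?_ ?_ (fun P P' f g hf _ => hcomp P P' f g hf) ?_ hf
  · rintro P f g - ⟨α, hα, f₀, hf₀, he⟩ hfg
    exact ⟨α, hα, f₀, hf₀, fun x hx => (hfg x hx.1).symm.trans (he x hx)⟩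
  · rintro P P' f - hle ⟨α, hα, f₀, hf₀, he⟩
    exact ⟨α, hα, f₀, hf₀.mono (inf_le_inf_right _ hle), fun x hx => he x ⟨hle hx.1, hx.2⟩⟩
  intro R hR _ _ a ha _
  have := finite_mulAut (S := S) hR.1
  let A : Submonoid (MulAut R) :=
    { carrier := {b | b ∈ F.autGroup R ∧ M R (autFn b)}
      one_mem' := ⟨one_mem _, 1, one_mem _, fun x => x, IsMap.id (F := E) inf_le_right,
        fun x hx => by rw [autFn_apply _ hx.1, autFn_apply _ hx.2]; rfl⟩
      mul_mem' := fun {b c} hb hc => by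
        refine ⟨mul_mem hb.1 hc.1, ?_⟩
        obtain ⟨α, hα, f₀, hf₀, he⟩ :=
          hcomp R R (autFn c) (autFn b) ((mem_autGroup_iff hR.1).1 hc.1)
            (fun x hx => autFn_mem c hx) hc.2 hb.2
        refine ⟨α, hα, f₀, hf₀, fun x hx => ?_⟩
        rw [← he x hx, autFn_apply _ hx.1]
        show _ = autFn b (autFn c x)
        rw [autFn_apply c hx.1, autFn_apply b (c ⟨x, hx.1⟩).2]
        rfl }
  let H : Subgroup (MulAut R) :=
    { A with
      inv_mem' := fun {b} hb => by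
        have h1 : b ^ (orderOf b - 1) ∈ A := pow_mem hb _
        have h2 : b⁻¹ = b ^ (orderOf b - 1) := by
          refine inv_eq_of_mul_eq_one_right ?_
          rw [← pow_succ', Nat.sub_add_cancel (orderOf_pos b), pow_orderOf_eq_one]
        rw [h2]; exact h1 }
  have hle : F.autGroup R ≤ H := by
    refine FusionNormal.autGroup_le_of_sylow_pResidual
      (isFullyAutomized_iff.1 (fullyAutomized_of_fullyNormalized hS hF hR)).2 (fun b hb => ?_)
      fun b hb hco => ⟨hb, ?_⟩
    · obtain ⟨s, hs, hbs⟩ := mem_autInducedBy_iff.1 hb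
      refine ⟨autInducedBy_le_autGroup F le_rfl hR.1 hb, ?_⟩
      obtain ⟨α, hα, hαe⟩ := exists_conjAut (F := F) hTS hTn hs
      exact ⟨α, hα, fun x => x, IsMap.id (F := E) inf_le_right, fun x hx => by
        rw [autFn_apply b hx.1, hbs, hαe x hx.2]⟩
    · have hVT : R ⊓ T ≤ T := inf_le_right
      have hmap : IsMap F R (autFn b) := (mem_autGroup_iff hR.1).1 hb
      have hm : IsMap F (R ⊓ T) (autFn b) := hmap.mono inf_le_left
      have hcl : ∀ z ∈ R ⊓ T, autFn b z ∈ R ⊓ T := fun z hz => ⟨autFn_mem b hz.1, by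
        obtain ⟨φ, hφ, e⟩ := hm
        rw [← e z hz]
        exact hsc.2 _ hVT φ hφ ⟨z, hz⟩⟩
      obtain ⟨c, hc, hce⟩ := exists_aut_of_isIso (F := F)
        ⟨hm, eq_of_le_of_card (hVT.trans hTS) (hm.img_le le_rfl hcl) (hm.card_img le_rfl).ge⟩
      have hpow : ∀ (n : ℕ) (z : ↥(R ⊓ T)),
          (((c ^ n) z : ↥(R ⊓ T)) : Ω) = (((b ^ n) ⟨z, z.2.1⟩ : R) : Ω) := by
        intro n
        induction n with
        | zero => intro z; simp
        | succ m ih =>
          intro z
          rw [pow_succ', pow_succ', MulAut.mul_apply, MulAut.mul_apply, hce,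
            autFn_apply _ ((c ^ m) z).2.1]
          congr 2
          exact Subtype.ext (ih z)
      have hc1 : c ^ orderOf b = 1 :=
        MulEquiv.ext fun z => Subtype.ext (by rw [hpow, pow_orderOf_eq_one]; rfl)
      have hcE := hEi.2.2 _ hVT (FusionNormal.mem_pResidual_map hc
        (Nat.Coprime.coprime_dvd_left (orderOf_dvd_of_pow_eq_one hc1) hco))
      have hcm := (mem_autGroup_iff hVT).1 hcE
      refine ⟨1, one_mem _, autFn c, hcm, fun x hx => ?_⟩
      rw [autFn_apply _ (hcm.mem hx)]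
      exact ((autFn_apply c hx).trans (hce ⟨x, hx⟩)).symm
  exact (hle ha).2

/-- The extension condition. -/
theorem extension_pPowerIndex (hS : IsPGroup p S) (hF : F.IsSaturated p) (hTS : T ≤ S)
    (hTn : (T.subgroupOf S).Normal) (hT : F.hyperfocalSubgroup p ≤ T) (hEs : E.IsSaturated p)
    (hEi : E.HasPPowerIndexIn F p) {α : MulAut T} (hα : α ∈ E.autGroup T) :
    ∃ β ∈ F.autGroup (T ⊔ centralizerIn S T),
      (∀ x : T, ((β (Subgroup.inclusion le_sup_left x) : ↥(T ⊔ centralizerIn S T)) : Ω) =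
        ((α x : T) : Ω)) ∧
      ∀ c : ↥(T ⊔ centralizerIn S T), (c : Ω) ∈ centralizerIn S T →
        (c : Ω)⁻¹ * ((β c : ↥(T ⊔ centralizerIn S T)) : Ω) ∈
          T ⊓ Subgroup.centralizer (T : Set Ω) := by
  set U := T ⊔ centralizerIn S T with hU
  have hUS : U ≤ S := sup_le hTS inf_le_left
  haveI : Finite T := finite_of_le hTS
  have := finite_mulAut (S := S) hTS
  have := finite_mulAut (S := S) hUS
  let Ext : MulAut T → MulAut U → Prop := fun a b => b ∈ F.autGroup U ∧
    (∀ x : T, ((b (Subgroup.inclusion le_sup_left x) : U) : Ω) = ((a x : T) : Ω)) ∧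
    ∀ c : U, (c : Ω) ∈ centralizerIn S T →
      (c : Ω)⁻¹ * ((b c : U) : Ω) ∈ T ⊓ Subgroup.centralizer (T : Set Ω)
  let A : Submonoid (MulAut T) :=
    { carrier := {a | ∃ b, Ext a b}
      one_mem' := ⟨1, one_mem _, fun x => rfl, fun c _ => by simp⟩
      mul_mem' := fun {a a'} ⟨b, hb, hbT, hbC⟩ ⟨b', hb', hbT', hbC'⟩ => by
        have hres : ∀ x : T, b' (Subgroup.inclusion le_sup_left x) =
            Subgroup.inclusion le_sup_left (a' x) := fun x => Subtype.ext (hbT' x)
        refine ⟨b * b', mul_mem hb hb', fun x => ?_, fun c hc => ?_⟩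
        · rw [MulAut.mul_apply, hres, hbT]
          rfl
        · have h1 := hbC' c hc
          set z : T := ⟨(c : Ω)⁻¹ * ((b' c : U) : Ω), h1.1⟩ with hz
          have hb'c : b' c = c * Subgroup.inclusion le_sup_left z := Subtype.ext (by
            show ((b' c : U) : Ω) = (c : Ω) * (z : Ω)
            rw [hz]; group)
          rw [MulAut.mul_apply, hb'c, map_mul, Subgroup.coe_mul, hbT, ← mul_assoc]
          refine mul_mem (hbC c hc) ⟨(a z).2, Subgroup.mem_centralizer_iff.2 fun y hy => ?_⟩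
          obtain ⟨y', hy'⟩ := a.surjective ⟨y, hy⟩
          have h2 : y' * z = z * y' :=
            Subtype.ext (Subgroup.mem_centralizer_iff.1 h1.2 y' y'.2)
          have h3 := congrArg (fun w : T => ((a w : T) : Ω)) h2
          simp only [map_mul, Subgroup.coe_mul, hy'] at h3
          exact h3 }
  let H : Subgroup (MulAut T) :=
    { A with
      inv_mem' := fun {a} ha => by
        have h1 : a ^ (orderOf a - 1) ∈ A := pow_mem ha _
        have h2 : a⁻¹ = a ^ (orderOf a - 1) := by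
          refine inv_eq_of_mul_eq_one_right ?_
          rw [← pow_succ', Nat.sub_add_cancel (orderOf_pos a), pow_orderOf_eq_one]
        rw [h2]; exact h1 }
  have hTfn : E.IsFullyNormalized T := ⟨le_rfl, fun Q _ => by
    rw [normalizerIn_self]; exact Subgroup.card_le_of_le inf_le_left⟩
  have hTnF : F.IsFullyNormalized T := ⟨hTS, fun Q _ => by
    have h1 : normalizerIn S T = S := le_antisymm inf_le_left fun s hs =>
      mem_normalizerIn_of_conj hs fun x hx => hTn.conj_mem ⟨x, hTS hx⟩ hx ⟨s, hs⟩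
    rw [h1]; exact Subgroup.card_le_of_le inf_le_left⟩
  have hle : E.autGroup T ≤ H := by
    refine FusionNormal.autGroup_le_of_sylow_pResidual
      (isFullyAutomized_iff.1 (fullyAutomized_of_fullyNormalized (hS.to_le hTS) hEs hTfn)).2
      (fun a ha => ?_) fun a ha hco => ?_
    · obtain ⟨t, ht, hat⟩ := mem_autInducedBy_iff.1 ha
      have htU : t ∈ U := Subgroup.mem_sup_left ht
      refine ⟨MulAut.conj (⟨t, htU⟩ : U), inn_le_autGroup F hUS ⟨⟨t, htU⟩, rfl⟩,
        fun x => (hat x).symm, fun c hc => ?_⟩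
      have h1 : t * (c : Ω) * t⁻¹ = c := by
        rw [Subgroup.mem_centralizer_iff.1 hc.2 t ht, mul_inv_cancel_right]
      show (c : Ω)⁻¹ * (t * (c : Ω) * t⁻¹) ∈ _
      rw [h1, inv_mul_cancel]
      exact one_mem _
    · have haF : a ∈ F.autGroup T := FusionNormal.autGroup_le_of_sub hEi.1 le_rfl ha
      obtain ⟨g, hg, hge⟩ := (isReceptive_iff.1 (receptive_of_fullyNormalized hS hF hTnF)).2 T
        (autFn a) (isIso_autFn hTS haF)
      have hUN : U ≤ Nx S T (autFn a) :=
        sup_le (le_Nx (isIso_autFn hTS haF).1) (centralizerIn_le_Nx S T _)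
      have hgU : IsMap F U g := hg.mono hUN
      have himgT : img g T = T := (img_congr hge).trans (isIso_autFn hTS haF).2
      have hgC : ∀ y ∈ centralizerIn S T, g y ∈ centralizerIn S T := fun y hy =>
        map_centralizerIn hgU le_sup_left himgT (Subgroup.mem_sup_right hy) hy
      have hgUU : ∀ y ∈ U, g y ∈ U := by
        let K : Subgroup Ω :=
          { carrier := {y | y ∈ U ∧ g y ∈ U}
            one_mem' := ⟨one_mem _, by rw [hgU.map_one]; exact one_mem _⟩
            mul_mem' := fun {y z} hy hz => ⟨mul_mem hy.1 hz.1, by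
              rw [hgU.map_mul hy.1 hz.1]; exact mul_mem hy.2 hz.2⟩
            inv_mem' := fun {y} hy => ⟨inv_mem hy.1, by
              rw [hgU.map_inv hy.1]; exact inv_mem hy.2⟩ }
        have : U ≤ K := sup_le
          (fun y hy => ⟨Subgroup.mem_sup_left hy, by
            rw [hge y hy]; exact Subgroup.mem_sup_left (autFn_mem a hy)⟩)
          fun y hy => ⟨Subgroup.mem_sup_right hy, Subgroup.mem_sup_right (hgC y hy)⟩
        exact fun y hy => (this hy).2
      obtain ⟨b, hb, hbe⟩ := exists_aut_of_isIso (F := F)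
        ⟨hgU, eq_of_le_of_card hUS (hgU.img_le le_rfl hgUU) (hgU.card_img le_rfl).ge⟩
      have hbT : ∀ (n : ℕ) (x : T),
          (b ^ n) (Subgroup.inclusion le_sup_left x) = Subgroup.inclusion le_sup_left ((a ^ n) x) := by
        intro n
        induction n with
        | zero => intro x; rfl
        | succ m ih =>
          intro x
          rw [pow_succ', MulAut.mul_apply, ih, pow_succ', MulAut.mul_apply]
          refine Subtype.ext ?_
          rw [hbe]
          exact (hge _ ((a ^ m) x).2).trans (autFn_apply a _)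
      obtain ⟨k, hk⟩ := FusionChain.exists_pow_coprime p b
      obtain ⟨j, hj⟩ := exists_pow_eq_self_of_coprime (hco.pow_right k).symm
      set i := p ^ k * j with hi
      have hai : a ^ i = a := by rw [hi, pow_mul, hj]
      have hbi : (orderOf (b ^ i)).Coprime p := by
        rw [hi, pow_mul]; exact hk.coprime_dvd_left (orderOf_pow_dvd j)
      have hbiF : b ^ i ∈ F.autGroup U := pow_mem hb i
      refine ⟨b ^ i, hbiF, fun x => ?_, fun c hc => ⟨?_, ?_⟩⟩
      · rw [hbT, hai]; rfl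
      · refine hT ?_
        have := inv_mul_autFn_mem_hyperfocal hUS hbiF (mem_pResidual_of_coprime hbiF hbi) c.2
        rwa [autFn_apply _ c.2] at this
      · have hbC : ∀ n : ℕ, (((b ^ n) c : U) : Ω) ∈ centralizerIn S T := by
          intro n
          induction n with
          | zero => exact hc
          | succ m ih => rw [pow_succ', MulAut.mul_apply, hbe]; exact hgC _ ih
        exact Subgroup.mul_mem _ (Subgroup.inv_mem _ hc.2) (hbC i).2
  obtain ⟨b, hb, hbT, hbC⟩ := hle hα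
  exact ⟨b, hb, hbT, hbC⟩

/-- A saturated subsystem of `p`-power index over a normal subgroup of `S` is normal. -/
theorem isNormalIn_pPowerIndex (hS : IsPGroup p S) (hF : F.IsSaturated p) (hTS : T ≤ S)
    (hTn : (T.subgroupOf S).Normal) (hT : F.hyperfocalSubgroup p ≤ T) (hEs : E.IsSaturated p)
    (hEi : E.HasPPowerIndexIn F p) : E.IsNormalIn F p := by
  have hsc := stronglyClosed_of_normal hS hF hTS hTn hT
  refine ⟨⟨hEs, hF, hEi.1, hsc, fun P hPT φ hφ α hα => ?_, fun P hPT φ hφ => ?_⟩,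
    fun α hα => extension_pPowerIndex hS hF hTS hTn hT hEs hEi hα⟩
  · obtain ⟨g, hg, hge⟩ := transport_pPowerIndex hS hTS hEs hEi hα (isMap_toFn hφ)
    have hdom : (P.subgroupOf T).map (T.subtype.comp α.toMonoidHom) = img (autFn α) P := by
      have hαS : IsMap F T (autFn α) := (mem_autGroup_iff hTS).1 hα
      refine le_antisymm ?_ (hαS.img_le hPT fun x hx => ?_)
      · rintro _ ⟨x, hx, rfl⟩
        exact Subgroup.subset_closure ⟨x, hx, autFn_apply α x.2⟩
      · exact ⟨⟨x, hPT hx⟩, hx, (autFn_apply α (hPT hx)).symm⟩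
    rw [← hdom] at hg
    obtain ⟨χ, hχ, hχe⟩ := hg
    refine ⟨χ, hχ, fun x hφx hαx => ?_⟩
    rw [hχe _ hαx, ← autFn_apply α (hPT x.2), hge x x.2, toFn_coe, autFn_apply α hφx]
  · obtain ⟨α, hα, f₀, hf₀, he⟩ :=
      frattini_pPowerIndex hS hF hTS hTn hT hEs hEi (isMap_toFn hφ)
    rw [inf_eq_left.2 hPT] at hf₀ he
    obtain ⟨φ₀, hφ₀, hφe⟩ := hf₀
    refine ⟨α, hα, φ₀, hφ₀, fun x hx => ?_⟩
    rw [← toFn_coe φ x, he x x.2, ← hφe x x.2, autFn_apply α hx]

end Cfsg.Agent.FusionPIndex
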