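import Cfsg.Agent.Lib.FusionPIndex.Step
import Cfsg.Agent.Lib.PGroup.Basic

/-
Existence and uniqueness of the subsystems of `p`-power index (BCGLO).
Main results: `exists_pPowerIndex`, `pPowerIndex_unique`.
-/

set_option autoImplicit false

namespace Cfsg.Agent.FusionPIndex

open Cfsg Cfsg.FusionSystem Cfsg.Agent.Fusion

variable {Ω : Type*} [Group Ω] {p : ℕ} [Fact p.Prime]

/-- `p`-power index is transitive. -/
theorem pPowerIndex_trans {S M T : Subgroup Ω} {F : FusionSystem S} {E₁ : FusionSystem M}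
    {E : FusionSystem T} (hMS : M ≤ S) (hTM : T ≤ M) (hT : F.hyperfocalSubgroup p ≤ T)
    (h₁ : E₁.HasPPowerIndexIn F p) (h : E.HasPPowerIndexIn E₁ p) : E.HasPPowerIndexIn F p := by
  refine ⟨fun P φ hφ => h₁.1 P (h.1 P hφ), hT, fun R hR => ?_⟩
  rw [Subgroup.map_le_iff_le_comap]
  refine (Subgroup.closure_le _).2 fun a ha => ?_
  have hco : (orderOf (a : MulAut R)).Coprime p := by rw [Subgroup.orderOf_coe]; exact ha
  have h2 : (a : MulAut R) ∈ E₁.autGroup R :=
    h₁.2.2 R (hR.trans hTM) (FusionNormal.mem_pResidual_map a.2 hco)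
  exact h.2.2 R hR (FusionNormal.mem_pResidual_map h2 hco)

/-- The system itself has `p`-power index. -/
theorem pPowerIndex_self {S : Subgroup Ω} (F : FusionSystem S) : F.HasPPowerIndexIn F p :=
  ⟨fun _ _ h => h, FusionNormal.hyperfocal_le F, fun _ _ => Subgroup.map_subtype_le _⟩

/-- Existence of the subsystems of `p`-power index. -/
theorem exists_pPowerIndex {S : Subgroup Ω} [Finite S] (hS : IsPGroup p S) {F : FusionSystem S}
    (hF : F.IsSaturated p) {T : Subgroup Ω} (hTS : T ≤ S) (hT : F.hyperfocalSubgroup p ≤ T) :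
    ∃ E : FusionSystem T, E.IsSaturated p ∧ E.HasPPowerIndexIn F p := by
  revert T
  revert hF F hS
  induction hn : Nat.card S using Nat.strong_induction_on generalizing S with
  | _ n ih =>
    intro hS F hF T hTS hT
    by_cases hTe : T = S
    · subst hTe
      exact ⟨F, hF, pPowerIndex_self F⟩
    have hne : T.subgroupOf S ≠ ⊤ := fun e =>
      hTe (le_antisymm hTS (Subgroup.subgroupOf_eq_top.1 e))
    obtain ⟨M, hM, hTM⟩ := (eq_top_or_exists_le_coatom (T.subgroupOf S)).resolve_left hne
    haveI := PGroup.isCoatom_normal hS hM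
    obtain ⟨E₁, hE₁, hi₁⟩ := exists_step hS hF (PGroup.isCoatom_index hS hM)
      fun u hu => hTM (hT hu)
    have hMS : M.map S.subtype ≤ S := Subgroup.map_subtype_le M
    haveI : Finite (M.map S.subtype) := finite_of_le hMS
    have hlt : Nat.card (M.map S.subtype) < n := by
      rw [Subgroup.card_map_of_injective S.subtype_injective, ← hn]
      refine lt_of_le_of_ne (Subgroup.card_le_card_group M) fun e => hM.1 ?_
      exact Subgroup.eq_top_of_card_eq M e
    have hTM' : T ≤ M.map S.subtype := fun x hx => ⟨⟨x, hTS hx⟩, hTM hx, rfl⟩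
    obtain ⟨E, hE, hi⟩ := ih _ hlt rfl (hS.to_le hMS) hE₁ hTM'
      ((FusionNormal.hyperfocal_mono hi₁.1 hMS).trans hT)
    exact ⟨E, hE, pPowerIndex_trans hMS hTM' hT hi₁ hi⟩

/-- Uniqueness of the saturated subsystem of `p`-power index over a subgroup. -/
theorem pPowerIndex_unique {S T : Subgroup Ω} [Finite T] (hT : IsPGroup p T) {F : FusionSystem S}
    {E E' : FusionSystem T} (hE : E.IsSaturated p) (hi : E.HasPPowerIndexIn F p)
    (hE' : E'.IsSaturated p) (hi' : E'.HasPPowerIndexIn F p) : E = E' :=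
  ext_of_hom fun P => Set.Subset.antisymm
    (FusionNormal.isSubsystemOf_of_pPowerIndex hT hE hi.1 hi' le_rfl P)
    (FusionNormal.isSubsystemOf_of_pPowerIndex hT hE' hi'.1 hi le_rfl P)

end Cfsg.Agent.FusionPIndex
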