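import Cfsg.Agent.EqLemmas
import Cfsg.Agent.Lib.FusionTate.Lift

/-
Realizers of the maps of a fusion system on a stable model, and the value of a homomorphism on them.

A label is a function `Γ` on a model, equivariant for both actions through `τ : S →* A` (`A` abelian).
`Label.D e` is the product over the right orbits of the change of label under a right equivariant
permutation `e`.
Main result: `Label.D_eq_one_of_id`: `D` is trivial on the realizers of the identity of `Q` when the
centralizers in `S` of all conjugates of `Q` are killed by `τ`.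
-/

set_option autoImplicit false

namespace Cfsg.Agent.FusionPIndex

open Cfsg Cfsg.FusionSystem Cfsg.Agent.Fusion Cfsg.Agent.Biset
open scoped Classical

theorem prod_eq_prod_fixed {G X A : Type*} [Group G] [MulAction G X] [Fintype X] [CommGroup A]
    {p : ℕ} [Fact p.Prime] [Finite G] (hG : IsPGroup p G) (hA : ∀ a : A, a ^ p = 1) (f : X → A)
    (hf : ∀ (g : G) (x : X), f (g • x) = f x) :
    ∏ x, f x = ∏ x ∈ Finset.univ.filter (fun x => ∀ g : G, g • x = x), f x := by
  rw [← Finset.prod_filter_mul_prod_filter_not Finset.univ (fun x => ∀ g : G, g • x = x) f]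
  refine mul_eq_left.2 ?_
  letI := Fintype.ofFinite (Quotient (MulAction.orbitRel G X))
  rw [← Finset.prod_fiberwise _ (fun x => Quotient.mk (MulAction.orbitRel G X) x)]
  refine Finset.prod_eq_one fun ω _ => ?_
  set s := ({x ∈ Finset.univ.filter (fun x => ¬ ∀ g : G, g • x = x) |
    Quotient.mk (MulAction.orbitRel G X) x = ω} : Finset X) with hs
  rcases s.eq_empty_or_nonempty with h | ⟨x₀, hx₀⟩
  · rw [h]; simp
  simp only [hs, Finset.mem_filter, Finset.mem_univ, true_and] at hx₀
  obtain ⟨hx₀, rfl⟩ := hx₀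
  have hmem : ∀ x, x ∈ s ↔ x ∈ MulAction.orbit G x₀ := by
    intro x
    simp only [hs, Finset.mem_filter, Finset.mem_univ, true_and]
    constructor
    · rintro ⟨-, h⟩
      exact MulAction.orbitRel_apply.1 (Quotient.exact h)
    · rintro ⟨g, rfl⟩
      refine ⟨fun h => hx₀ fun k => ?_, Quotient.sound' (MulAction.orbitRel_apply.2 ⟨g, rfl⟩)⟩
      have h1 : g • x₀ = x₀ := by
        have := h g⁻¹
        rw [inv_smul_smul] at this
        exact this.symm
      rw [← h1]
      exact h k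
  rw [Finset.prod_eq_pow_card (b := f x₀) fun x hx => by
    obtain ⟨g, rfl⟩ := (hmem x).1 hx; exact hf g x₀]
  have hcard : s.card = Nat.card (MulAction.orbit G x₀) := by
    rw [← Nat.card_eq_finsetCard]
    exact Nat.card_congr (Equiv.subtypeEquivRight hmem)
  obtain ⟨n, hn⟩ := hG.card_orbit x₀
  rcases n with _ | n
  · refine absurd (fun g => ?_) hx₀
    rw [pow_zero] at hn
    obtain ⟨y, hy⟩ := Nat.card_eq_one_iff_exists.1 hn
    exact congrArg Subtype.val ((hy ⟨g • x₀, g, rfl⟩).trans (hy ⟨x₀, 1, one_smul _ _⟩).symm)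
  · rw [hcard, hn, pow_succ', pow_mul, hA, one_pow]

variable {Ω : Type*} [Group Ω] {S : Subgroup Ω}

noncomputable instance instFintypeROrb [Finite S] (c : Subgroup (S × S) → ℕ) : Fintype (ROrb c) :=
  haveI : Finite (ROrb c) := Quotient.finite _
  Fintype.ofFinite _

/-- The right equivariant permutations of a model. -/
def REq (c : Subgroup (S × S) → ℕ) : Subgroup (Equiv.Perm (Model c)) where
  carrier := {e | ∀ (b : S) (x : Model c), e (((1 : S), b) • x) = ((1 : S), b) • e x}
  one_mem' := fun _ _ => rfl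
  mul_mem' := fun {e e'} h h' b x => by
    rw [Equiv.Perm.mul_apply, Equiv.Perm.mul_apply, h', h]
  inv_mem' := fun {e} h b x => by
    apply e.injective
    rw [h, Equiv.Perm.inv_def, e.apply_symm_apply, e.apply_symm_apply]

theorem req_right {c : Subgroup (S × S) → ℕ} (e : REq c) (b : S) (x : Model c) :
    e.1 (((1 : S), b) • x) = ((1 : S), b) • e.1 x := e.2 b x

/-- `e` carries the left action of `u ∈ P` to that of `f u`. -/
def Real {c : Subgroup (S × S) → ℕ} (P : Subgroup Ω) (f : Ω → Ω) (e : REq c) : Prop :=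
  ∀ u v : S, (u : Ω) ∈ P → (v : Ω) = f u →
    ∀ x : Model c, e.1 (((u, 1) : S × S) • x) = ((v, 1) : S × S) • e.1 x

/-- Left multiplication by `a`. -/
def lft (c : Subgroup (S × S) → ℕ) (a : S) : REq c :=
  ⟨MulAction.toPerm ((a, 1) : S × S), fun b x => comm_left_right a b x⟩

theorem lft_apply {c : Subgroup (S × S) → ℕ} (a : S) (x : Model c) :
    (lft c a).1 x = ((a, 1) : S × S) • x := rfl

theorem lft_real {c : Subgroup (S × S) → ℕ} (a : S) (P : Subgroup Ω) :
    Real P (fun y => (a : Ω) * y * (a : Ω)⁻¹) (lft c a) := by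
  intro u v _ hv x
  have hv' : v = a * u * a⁻¹ := Subtype.ext hv
  rw [lft_apply, lft_apply, smul_smul, smul_smul, Prod.mk_mul_mk, Prod.mk_mul_mk, hv',
    inv_mul_cancel_right]

variable {F : FusionSystem S}

theorem Real.mono {c : Subgroup (S × S) → ℕ} {P Q : Subgroup Ω} {f : Ω → Ω} {e : REq c}
    (h : Real P f e) (hQ : Q ≤ P) : Real Q f e :=
  fun u v hu hv x => h u v (hQ hu) hv x

theorem Real.congr {c : Subgroup (S × S) → ℕ} {P : Subgroup Ω} {f g : Ω → Ω} {e : REq c}
    (h : Real P f e) (he : ∀ x ∈ P, f x = g x) : Real P g e :=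
  fun u v hu hv x => h u v hu (hv.trans (he _ hu).symm) x

theorem Real.comp {c : Subgroup (S × S) → ℕ} {P Q : Subgroup Ω} {f g : Ω → Ω} {e e' : REq c}
    (hf : IsMap F P f) (h : Real P f e) (h' : Real Q g e') (hPQ : ∀ x ∈ P, f x ∈ Q) :
    Real P (fun x => g (f x)) (e' * e) := by
  intro u v hu hv x
  show e'.1 (e.1 _) = _ • e'.1 (e.1 x)
  rw [h u ⟨f u, hf.mem hu⟩ hu rfl x, h' ⟨f u, hf.mem hu⟩ v (hPQ _ hu) hv]

theorem Real.inv {c : Subgroup (S × S) → ℕ} {P Q : Subgroup Ω} {f g : Ω → Ω} {e : REq c}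
    (hf : IsIso F P Q f) (h : Real P f e) (hg : ∀ x ∈ P, g (f x) = x) :
    Real Q g e⁻¹ := by
  intro u v hu hv x
  obtain ⟨y, hy, hyu⟩ := hf.exists_eq hu
  have hv' : (v : Ω) = y := by rw [hv, ← hyu, hg y hy]
  have h1 := h v u (hv' ▸ hy) (by rw [hv', hyu]) (e.1.symm x)
  rw [e.1.apply_symm_apply] at h1
  show e.1.symm _ = _ • e.1.symm x
  rw [← h1, e.1.symm_apply_apply]

theorem Real.id_one {c : Subgroup (S × S) → ℕ} (P : Subgroup Ω) :
    Real P (fun x => x) (1 : REq c) := by
  intro u v _ hv x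
  rw [show v = u from Subtype.ext hv]
  rfl

/-- Every map has a realizer. -/
theorem exists_real [Finite S] {c : Subgroup (S × S) → ℕ} (hc : IsStable F c) {P : Subgroup Ω}
    {f : Ω → Ω} (hf : IsMap F P f) : ∃ e : REq c, Real P f e := by
  obtain ⟨e, he⟩ := hc.exists_equiv_of_isMap hf
  exact ⟨⟨e, fun b x => he 1 1 b P.one_mem (by rw [OneMemClass.coe_one, hf.map_one]) x⟩,
    fun u v hu hv x => he u v 1 hu hv x⟩

theorem Real.pow {c : Subgroup (S × S) → ℕ} {R : Subgroup Ω} (hR : R ≤ S) {α : MulAut R} {e : REq c}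
    (hα : α ∈ F.autGroup R) (h : Real R (autFn α) e) (n : ℕ) : Real R (autFn (α ^ n)) (e ^ n) := by
  induction n with
  | zero =>
    rw [pow_zero, pow_zero]
    exact (Real.id_one R).congr fun x hx => by rw [autFn_apply _ hx]; rfl
  | succ n ih =>
    rw [pow_succ, pow_succ]
    refine (Real.comp ((mem_autGroup_iff hR).1 hα) h ih fun x hx => autFn_mem α hx).congr
      fun x hx => ?_
    rw [autFn_apply α hx, autFn_apply _ (α ⟨x, hx⟩).2, autFn_apply _ hx]
    rfl

/-- A labelled stable model. -/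
structure Label {Ω : Type*} [Group Ω] {S : Subgroup Ω} (F : FusionSystem S) (A : Type*)
    [CommGroup A] where
  c : Subgroup (S × S) → ℕ
  stable : IsStable F c
  τ : S →* A
  Γ : Model c → A
  Γ_smul : ∀ (a b : S) (x : Model c), Γ ((a, b) • x) = τ a * Γ x * (τ b)⁻¹
  τ_map : ∀ {P : Subgroup Ω} {f : Ω → Ω}, IsMap F P f → ∀ u v : S, (u : Ω) ∈ P →
    (v : Ω) = f u → τ v = τ u

namespace Label

variable {A : Type*} [CommGroup A] (L : Label F A)

theorem Γ_right (b : S) (x : Model L.c) : L.Γ (((1 : S), b) • x) = L.Γ x * (L.τ b)⁻¹ := by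
  rw [L.Γ_smul, map_one, one_mul]

theorem Γ_left (a : S) (x : Model L.c) : L.Γ (((a, 1) : S × S) • x) = L.τ a * L.Γ x := by
  rw [L.Γ_smul, map_one, inv_one, mul_one]

/-- The permutation of the right orbits. -/
def orbPerm (e : REq L.c) : ROrb L.c ≃ ROrb L.c where
  toFun := Quotient.map' e.1 fun x y ⟨b, hb⟩ => ⟨b, by rw [← req_right e, hb]⟩
  invFun := Quotient.map' (e⁻¹).1 fun x y ⟨b, hb⟩ => ⟨b, by rw [← req_right e⁻¹, hb]⟩
  left_inv := fun q => by
    induction q using Quotient.inductionOn' with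
    | h x => exact congrArg Quotient.mk'' (e.1.symm_apply_apply x)
  right_inv := fun q => by
    induction q using Quotient.inductionOn' with
    | h x => exact congrArg Quotient.mk'' (e.1.apply_symm_apply x)

theorem orbPerm_mk (e : REq L.c) (x : Model L.c) :
    L.orbPerm e (Quotient.mk'' x) = Quotient.mk'' (e.1 x) := rfl

/-- The change of the label on a right orbit. -/
def dl (e : REq L.c) : ROrb L.c → A :=
  fun q => Quotient.liftOn' q (fun x => L.Γ (e.1 x) / L.Γ x) fun x y ⟨b, hb⟩ => by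
    subst hb
    rw [req_right e, L.Γ_right, L.Γ_right, mul_div_mul_right_eq_div]

theorem dl_mk (e : REq L.c) (x : Model L.c) :
    L.dl e (Quotient.mk'' x) = L.Γ (e.1 x) / L.Γ x := rfl

variable [Finite S]

/-- The product of the changes of label. -/
noncomputable def D : REq L.c →* A :=
  MonoidHom.mk' (fun e => ∏ q, L.dl e q) fun e e' => by
    have key : ∀ q, L.dl (e * e') q = L.dl e (L.orbPerm e' q) * L.dl e' q := by
      intro q
      induction q using Quotient.inductionOn' with
      | h x =>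
        rw [orbPerm_mk, dl_mk, dl_mk, dl_mk, div_mul_div_cancel]
        rfl
    simp only [key, Finset.prod_mul_distrib]
    rw [Fintype.prod_equiv (L.orbPerm e') (fun q => L.dl e (L.orbPerm e' q)) (fun q => L.dl e q)
      fun q => rfl]

theorem D_apply (e : REq L.c) : L.D e = ∏ q, L.dl e q := rfl

theorem D_lft (a : S) : L.D (lft L.c a) = L.τ a ^ Fintype.card (ROrb L.c) := by
  rw [D_apply, Finset.prod_eq_pow_card (b := L.τ a), Finset.card_univ]
  intro q _
  induction q using Quotient.inductionOn' with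
  | h x => rw [dl_mk, lft_apply, L.Γ_left, mul_div_cancel_right]

/-- The value on the realizers of an identity. -/
theorem D_eq_one_of_id {p : ℕ} [Fact p.Prime] (hS : IsPGroup p S) (hA : ∀ a : A, a ^ p = 1)
    {Q : Subgroup Ω} (hQ : Q ≤ S)
    (hgood : ∀ Q', F.IsConj Q Q' → ∀ s : S, (s : Ω) ∈ centralizerIn S Q' → L.τ s = 1)
    {e : REq L.c} (he : Real Q (fun x => x) e) : L.D e = 1 := by
  letI : MulAction (Q.subgroupOf S) (ROrb L.c) :=
    { smul := fun u q => orbMap L.c u.1 q
      one_smul := fun q => by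
        induction q using Quotient.inductionOn' with
        | h x => exact congrArg Quotient.mk'' (one_smul (S × S) x)
      mul_smul := fun u v q => orbMap_mul u.1 v.1 q }
  have hcomm : ∀ (u : S), (u : Ω) ∈ Q → ∀ (v : S) (x : Model L.c),
      e.1 ((u, v) • x) = (u, v) • e.1 x := by
    intro u hu v x
    have h1 : ((u, v) : S × S) = ((u, 1) : S × S) * ((1 : S), v) := by simp
    rw [h1, mul_smul, mul_smul, he u u hu rfl, req_right e]
  have hinv : ∀ (u : Q.subgroupOf S) (q : ROrb L.c), L.dl e (u • q) = L.dl e q := by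
    intro u q
    induction q using Quotient.inductionOn' with
    | h x =>
      show L.Γ (e.1 (((u.1, 1) : S × S) • x)) / L.Γ (((u.1, 1) : S × S) • x) = _
      rw [he u.1 u.1 u.2 rfl, L.Γ_left, L.Γ_left, mul_div_mul_left_eq_div]
      rfl
  rw [D_apply, prod_eq_prod_fixed (hS.to_subgroup _) hA _ hinv]
  let st : Model L.c → Set (S × S) := fun x => {h | (h.1 : Ω) ∈ Q ∧ h • x = x}
  have hst : ∀ x, st (e.1 x) = st x := by
    intro x
    ext ⟨u, v⟩
    refine and_congr_right fun hu => ?_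
    rw [← hcomm u hu v x]
    exact ⟨fun h => e.1.injective h, fun h => by rw [h]⟩
  let O : Model L.c → Set (Set (S × S)) := fun x => Set.range fun b : S => st (((1 : S), b) • x)
  have hOe : ∀ x, O (e.1 x) = O x := by
    intro x
    show Set.range _ = Set.range _
    refine congrArg Set.range (funext fun b => ?_)
    rw [← req_right e, hst]
  have hOr : ∀ (s : S) x, O (((1 : S), s) • x) = O x := by
    intro s x
    ext K
    constructor
    · rintro ⟨b, rfl⟩
      exact ⟨b * s, by simp only [smul_smul, Prod.mk_mul_mk, one_mul]⟩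
    · rintro ⟨b, rfl⟩
      exact ⟨b * s⁻¹, by simp only [smul_smul, Prod.mk_mul_mk, one_mul, inv_mul_cancel_right]⟩
  let K₀ : Model L.c → Set (S × S) := fun x => Classical.epsilon fun K => K ∈ O x
  have hK₀ : ∀ x, K₀ x ∈ O x := fun x =>
    Classical.epsilon_spec (p := fun K => K ∈ O x) ⟨_, 1, rfl⟩
  choose bb hbb using hK₀
  let Fx : Model L.c → Prop := fun x => ∀ u : S, (u : Ω) ∈ Q → ∃ v : S, (u, v) • x = x
  have hFxr : ∀ (b : S) x, Fx x → Fx (((1 : S), b) • x) := by
    intro b x hx u hu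
    obtain ⟨v, hv⟩ := hx u hu
    refine ⟨b * v * b⁻¹, ?_⟩
    conv_rhs => rw [← hv]
    rw [smul_smul, smul_smul, Prod.mk_mul_mk, Prod.mk_mul_mk, inv_mul_cancel_right, mul_one,
      one_mul]
  have hC : ∀ x, Fx x → ∀ c : S, st (((1 : S), c) • x) = st x → L.τ c = 1 := by
    intro x hx c hc
    let K : Subgroup (S × S) :=
      MulAction.stabilizer (S × S) x ⊓ (Q.subgroupOf S).comap (MonoidHom.fst S S)
    obtain ⟨g, hg, hge⟩ := L.stable.1.good_of_fixed (K := K) (x := x) fun k hk => hk.1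
    have hsrc : src K = Q := by
      refine le_antisymm ?_ fun y hy => ?_
      · rintro _ ⟨a, ha, rfl⟩
        exact ha.2
      · obtain ⟨v, hv⟩ := hx ⟨y, hQ hy⟩ hy
        exact ⟨(⟨y, hQ hy⟩, v), ⟨hv, hy⟩, rfl⟩
    rw [hsrc] at hg
    refine hgood (img g Q) (isConj_iff.2 ⟨g, hg.isIso⟩) c (mem_centralizerIn_of_conj c.2 ?_)
    intro y hy
    obtain ⟨u, hu, rfl⟩ := (hg.mem_img_iff le_rfl).1 hy
    obtain ⟨v, hv⟩ := hx ⟨u, hQ hu⟩ hu
    have h1 : ((⟨u, hQ hu⟩, v) : S × S) ∈ st x := ⟨hu, hv⟩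
    rw [← hc] at h1
    have h2 : ((⟨u, hQ hu⟩, c⁻¹ * v * c) : S × S) ∈ K := by
      refine ⟨?_, hu⟩
      have h3 := congrArg (fun z => ((1 : S), c⁻¹) • z) h1.2
      simp only [smul_smul, Prod.mk_mul_mk, one_mul, mul_one, inv_mul_cancel] at h3
      show _ • x = x
      rw [mul_assoc]
      exact h3.trans (one_smul _ x)
    have h4 : ((⟨u, hQ hu⟩, v) : S × S) ∈ K := ⟨hv, hu⟩
    obtain ⟨g', hg', hge'⟩ := L.stable.1.good_of_fixed (K := K) (x := x) fun k hk => hk.1
    have h5 : v = c⁻¹ * v * c :=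
      congrArg Prod.snd (Good.eq_of_fst_eq (F := F) ⟨g', hg', hge'⟩ h4 h2 rfl)
    have h6 : c * v * c⁻¹ = v := by
      conv_lhs => rw [h5]
      group
    have h7 : (g u : Ω) = v := hge _ h4
    rw [h7]
    exact congrArg Subtype.val h6
  let Γ' : Model L.c → A := fun x => L.τ (bb x)
  have hΓe : ∀ x, Fx x → Γ' (e.1 x) = Γ' x := by
    intro x hx
    have hK : K₀ (e.1 x) = K₀ x := by simp only [K₀, hOe]
    have h1 := (hbb (e.1 x)).trans (hK.trans (hbb x).symm)
    simp only [← req_right e, hst] at h1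
    have h2 := hC _ (hFxr (bb x) x hx) (bb (e.1 x) * (bb x)⁻¹) (by
      rw [smul_smul, Prod.mk_mul_mk, one_mul, inv_mul_cancel_right]
      exact h1)
    rw [map_mul, map_inv, mul_inv_eq_one] at h2
    exact h2
  have hΓr : ∀ (s : S) x, Fx x → Γ' (((1 : S), s) • x) = Γ' x * (L.τ s)⁻¹ := by
    intro s x hx
    have hK : K₀ (((1 : S), s) • x) = K₀ x := by simp only [K₀, hOr]
    have h1 := (hbb (((1 : S), s) • x)).trans (hK.trans (hbb x).symm)
    simp only [smul_smul, Prod.mk_mul_mk, one_mul] at h1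
    have h2 := hC _ (hFxr (bb x) x hx) (bb (((1 : S), s) • x) * s * (bb x)⁻¹) (by
      rw [smul_smul, Prod.mk_mul_mk, one_mul, inv_mul_cancel_right]
      exact h1)
    rw [map_mul, map_mul, map_inv, mul_inv_eq_one] at h2
    exact eq_mul_inv_of_mul_eq h2
  let ε : ROrb L.c → A := fun q => L.Γ q.out / Γ' q.out
  set Fq := Finset.univ.filter fun q : ROrb L.c => ∀ g : Q.subgroupOf S, g • q = q with hFq
  have hFqx : ∀ q ∈ Fq, Fx q.out := by
    intro q hq u hu
    have h := (Finset.mem_filter.1 hq).2 ⟨u, hu⟩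
    rw [← Quotient.out_eq q] at h
    obtain ⟨b, hb⟩ := (Quotient.eq'' (s₁ := rightRel L.c)).1 h
    refine ⟨b, ?_⟩
    rw [show ((u, b) : S × S) = ((1 : S), b) * ((u, 1) : S × S) from by simp, mul_smul]
    exact hb
  have hεwd : ∀ x, Fx x → ε (Quotient.mk'' x) = L.Γ x / Γ' x := by
    intro x hx
    obtain ⟨b, hb⟩ := (Quotient.eq'' (s₁ := rightRel L.c)).1
      ((Quotient.out_eq (Quotient.mk'' x : ROrb L.c)).symm)
    show L.Γ _ / Γ' _ = _
    rw [← hb, L.Γ_right, hΓr b x hx, mul_div_mul_right_eq_div]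
  have hmap : ∀ q ∈ Fq, L.orbPerm e q ∈ Fq := by
    intro q hq
    simp only [hFq, Finset.mem_filter, Finset.mem_univ, true_and] at hq ⊢
    intro g
    induction q using Quotient.inductionOn' with
    | h x =>
      refine Eq.trans ?_ (congrArg (L.orbPerm e) (hq g))
      exact congrArg Quotient.mk'' (he g.1 g.1 g.2 rfl x).symm
  have key : ∀ q ∈ Fq, L.dl e q = ε (L.orbPerm e q) / ε q := by
    intro q hq
    have hx := hFqx q hq
    have hx' : Fx (e.1 q.out) := by
      intro u hu
      obtain ⟨v, hv⟩ := hx u hu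
      exact ⟨v, by rw [← hcomm u hu v, hv]⟩
    conv_lhs => rw [← Quotient.out_eq q]
    conv_rhs => rw [← Quotient.out_eq q]
    show L.Γ (e.1 q.out) / L.Γ q.out =
      ε (Quotient.mk'' (e.1 q.out)) / ε (Quotient.mk'' q.out)
    rw [hεwd _ hx, hεwd _ hx', hΓe _ hx, div_div_div_cancel_right]
  rw [Finset.prod_congr rfl key, Finset.prod_div_distrib, div_eq_one]
  have himg : Fq.image (L.orbPerm e) = Fq := Finset.eq_of_subset_of_card_le
    (Finset.image_subset_iff.2 hmap)
    (Finset.card_image_of_injective _ (L.orbPerm e).injective).ge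
  conv_rhs => rw [← himg]
  exact (Finset.prod_image fun a _ b _ h => (L.orbPerm e).injective h).symm

end Label

end Cfsg.Agent.FusionPIndex
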