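import Cfsg.Agent.Lib.FusionPIndex.Realizer
import Cfsg.Agent.Lib.FusionNormal.Generation

/-
The subsystem of a saturated fusion system on a subgroup of index `p` containing the hyperfocal subgroup.
Main result: `exists_step`: it exists, is saturated and has `p`-power index.
-/

set_option autoImplicit false

namespace Cfsg.Agent.FusionPIndex

open Cfsg Cfsg.FusionSystem Cfsg.Agent.Fusion Cfsg.Agent.Biset
open scoped Classical

variable {Ω : Type*} [Group Ω] {S : Subgroup Ω} [Finite S] {F : FusionSystem S}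
  {A : Type*} [CommGroup A]

/-- The maps with a realizer of value one. -/
def Zero (L : Label F A) (P : Subgroup Ω) (f : Ω → Ω) : Prop :=
  ∃ e : REq L.c, Real P f e ∧ L.D e = 1

theorem Zero.congr {L : Label F A} {P : Subgroup Ω} {f g : Ω → Ω} (h : Zero L P f)
    (e : ∀ x ∈ P, f x = g x) : Zero L P g :=
  let ⟨r, h1, h2⟩ := h
  ⟨r, h1.congr e, h2⟩

theorem Zero.mono {L : Label F A} {P Q : Subgroup Ω} {f : Ω → Ω} (h : Zero L P f) (hQ : Q ≤ P) :
    Zero L Q f :=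
  let ⟨r, h1, h2⟩ := h
  ⟨r, h1.mono hQ, h2⟩

theorem Zero.comp {L : Label F A} {P Q : Subgroup Ω} {f g : Ω → Ω} (hf : IsMap F P f)
    (h : Zero L P f) (h' : Zero L Q g) (hPQ : ∀ x ∈ P, f x ∈ Q) :
    Zero L P (fun x => g (f x)) := by
  obtain ⟨e, he, hd⟩ := h
  obtain ⟨e', he', hd'⟩ := h'
  exact ⟨e' * e, Real.comp hf he he' hPQ, by rw [map_mul, hd, hd', mul_one]⟩

theorem Zero.inv {L : Label F A} {P Q : Subgroup Ω} {f g : Ω → Ω} (hf : IsIso F P Q f)
    (h : Zero L P f) (hg : ∀ x ∈ P, g (f x) = x) : Zero L Q g := by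
  obtain ⟨e, he, hd⟩ := h
  exact ⟨e⁻¹, Real.inv hf he hg, by rw [map_inv, hd, inv_one]⟩

theorem zero_conj {L : Label F A} {P : Subgroup Ω} {g : S} (hg : L.τ g = 1) :
    Zero L P (fun x => (g : Ω) * x * (g : Ω)⁻¹) :=
  ⟨lft L.c g, lft_real g P, by rw [L.D_lft, hg, one_pow]⟩

/-- The system of the maps of value one between subgroups of `T`. -/
def stepSystem (L : Label F A) (T : Subgroup Ω) (hTS : T ≤ S)
    (hT : ∀ u : S, (u : Ω) ∈ T → L.τ u = 1) : FusionSystem T where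
  Hom P := {φ | φ ∈ F.Hom P ∧ P ≤ T ∧ (∀ x : P, φ x ∈ T) ∧ Zero L P (toFn φ)}
  le_of_mem h := ⟨h.2.1, h.2.2.1⟩
  injective_of_mem h := F.injective_of_mem h.1
  conj_mem {P g} hP hg := by
    refine ⟨F.conj_mem (hP.trans hTS) (hTS hg), hP,
      fun x => T.mul_mem (T.mul_mem hg (hP x.2)) (T.inv_mem hg), ?_⟩
    exact (zero_conj (g := ⟨g, hTS hg⟩) (hT _ hg)).congr fun x hx => (toFn_apply (conjHom P g) hx).symm
  comp_mem {P Q φ ψ} hφ hψ h := by
    refine ⟨F.comp_mem hφ.1 hψ.1 h, hφ.2.1, fun x => hψ.2.2.1 _, ?_⟩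
    have h' : ∀ x ∈ P, toFn φ x ∈ Q := fun x hx => by rw [toFn_apply φ hx]; exact h ⟨x, hx⟩
    refine (hφ.2.2.2.comp (isMap_toFn hφ.1) hψ.2.2.2 h').congr fun x hx => ?_
    refine (toFn_apply ψ (h' x hx)).trans (Eq.trans ?_ (toFn_apply (ψ.comp (φ.codRestrict Q h)) hx).symm)
    exact congrArg ψ (Subtype.ext (toFn_apply φ hx))
  inv_mem {P φ} hφ := by
    obtain ⟨ψ, hψ, e⟩ := F.inv_mem hφ.1
    refine ⟨ψ, ⟨hψ, fun y hy => ?_, fun y => ?_, ?_⟩, e⟩
    · obtain ⟨x, rfl⟩ := hy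
      exact hφ.2.2.1 x
    · obtain ⟨_, x, rfl⟩ := y
      rw [e]
      exact hφ.2.1 x.2
    · refine hφ.2.2.2.inv ⟨isMap_toFn hφ.1, toFn_img φ⟩ fun x hx => ?_
      rw [toFn_apply φ hx, toFn_apply ψ ⟨⟨x, hx⟩, rfl⟩]
      exact e ⟨x, hx⟩

theorem isMap_step_iff {L : Label F A} {T : Subgroup Ω} {hTS : T ≤ S}
    {hT : ∀ u : S, (u : Ω) ∈ T → L.τ u = 1} {P : Subgroup Ω} {f : Ω → Ω} :
    IsMap (stepSystem L T hTS hT) P f ↔
      IsMap F P f ∧ P ≤ T ∧ (∀ x ∈ P, f x ∈ T) ∧ Zero L P f := by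
  constructor
  · rintro ⟨φ, hφ, e⟩
    exact ⟨⟨φ, hφ.1, e⟩, hφ.2.1, fun x hx => e x hx ▸ hφ.2.2.1 _,
      hφ.2.2.2.congr fun x hx => (toFn_apply φ hx).trans (e x hx)⟩
  · rintro ⟨⟨φ, hφ, e⟩, hP, hfT, hz⟩
    exact ⟨φ, ⟨hφ, hP, fun x => (e x x.2).symm ▸ hfT _ x.2,
      hz.congr fun x hx => ((toFn_apply φ hx).trans (e x hx)).symm⟩, e⟩

theorem isSubsystemOf_step (L : Label F A) (T : Subgroup Ω) (hTS : T ≤ S)
    (hT : ∀ u : S, (u : Ω) ∈ T → L.τ u = 1) : (stepSystem L T hTS hT).IsSubsystemOf F :=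
  fun _ _ h => h.1

section Prime

variable {p : ℕ} [Fact p.Prime] (L : Label F A)

/-- The conditions on the label of an index `p` subgroup. -/
structure IsStep (L : Label F A) (p : ℕ) (T : Subgroup Ω) : Prop where
  le : T ≤ S
  mem_iff : ∀ u : S, L.τ u = 1 ↔ (u : Ω) ∈ T
  card : Nat.card A = p
  deg : ¬ p ∣ Fintype.card (ROrb L.c)

variable {L} {T : Subgroup Ω}

theorem IsStep.pow_eq_one (h : IsStep L p T) (a : A) : a ^ p = 1 := by
  rw [← h.card]; exact pow_card_eq_one'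

theorem IsStep.eq_one_of_pow (h : IsStep L p T) {a : A} (ha : a ^ Fintype.card (ROrb L.c) = 1) :
    a = 1 := by
  have h1 : orderOf a ∣ Nat.gcd (Fintype.card (ROrb L.c)) p :=
    Nat.dvd_gcd (orderOf_dvd_of_pow_eq_one ha) (orderOf_dvd_of_pow_eq_one (h.pow_eq_one a))
  rw [Nat.Coprime.gcd_eq_one ((Nat.Prime.coprime_iff_not_dvd Fact.out).2 h.deg).symm,
    Nat.dvd_one, orderOf_eq_one_iff] at h1
  exact h1

theorem IsStep.exists_pow_mul (h : IsStep L p T) {a : A} (ha : a ≠ 1) (d : A) :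
    ∃ i : ℕ, (a ^ i) ^ Fintype.card (ROrb L.c) * d = 1 := by
  haveI : Finite A := Nat.finite_of_card_ne_zero (by rw [h.card]; exact (Fact.out : p.Prime).ne_zero)
  have hne : a ^ Fintype.card (ROrb L.c) ≠ 1 := fun e => ha (h.eq_one_of_pow e)
  have hmem : d⁻¹ ∈ Submonoid.powers (a ^ Fintype.card (ROrb L.c)) :=
    mem_powers_of_prime_card (p := p) h.card hne
  obtain ⟨i, hi⟩ := hmem
  exact ⟨i, by rw [← pow_mul, mul_comm i, pow_mul]; simp only at hi; rw [hi, inv_mul_cancel]⟩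

theorem IsStep.map_mem (h : IsStep L p T) {P : Subgroup Ω} {f : Ω → Ω} (hf : IsMap F P f) {x : Ω}
    (hx : x ∈ P) (hxT : x ∈ T) : f x ∈ T := by
  have h1 := L.τ_map hf ⟨x, h.le hxT⟩ ⟨f x, hf.mem hx⟩ hx rfl
  rw [(h.mem_iff ⟨x, h.le hxT⟩).2 hxT] at h1
  exact (h.mem_iff _).1 h1

omit [Fact p.Prime] in
/-- Either the centralizers of all conjugates lie in `T`, or some centralizer element is outside. -/
theorem exists_centralizer (h : IsStep L p T) {Q : Subgroup Ω} (hQ : F.IsReceptive Q)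
    (hne : ¬ ∀ Q', F.IsConj Q Q' → ∀ s : S, (s : Ω) ∈ centralizerIn S Q' → L.τ s = 1) :
    ∃ c : S, (c : Ω) ∈ centralizerIn S Q ∧ L.τ c ≠ 1 := by
  simp only [not_forall] at hne
  obtain ⟨Q', hQ', s, hs, hτ⟩ := hne
  obtain ⟨g, hg⟩ := isConj_iff.1 (isConj_symm hQ')
  obtain ⟨g', hg', he⟩ := (isReceptive_iff.1 hQ).2 Q' g hg
  have hQN : Q' ≤ Nx S Q' g := le_Nx hg.1
  have hsN : (s : Ω) ∈ Nx S Q' g := centralizerIn_le_Nx S Q' g hs
  refine ⟨⟨g' s, hg'.mem hsN⟩, map_centralizerIn hg' hQN ?_ hsN hs, ?_⟩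
  · rw [← hg.2]
    exact img_congr he
  · rw [L.τ_map hg' s _ hsN rfl]
    exact hτ

variable (hS : IsPGroup p S) (hF : F.IsSaturated p)

include hS hF in
/-- A map of `F` on `Q` with a realizer of value one has all extensions adjustable to value one. -/
theorem exists_zero_extension (h : IsStep L p T) {P Q : Subgroup Ω} {f : Ω → Ω}
    (hR : F.IsFullyNormalized Q) (hf : IsIso F P Q f) (hz : Zero L P f) {N : Subgroup Ω}
    {ψ : Ω → Ω} (hψ : IsMap F N ψ) (hPN : P ≤ N) (he : ∀ x ∈ P, ψ x = f x) :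
    ∃ χ, IsMap F N χ ∧ Zero L N χ ∧ ∀ x ∈ P, χ x = f x := by
  obtain ⟨e, he', hd⟩ := hz
  obtain ⟨r, hr⟩ := exists_real L.stable hψ
  by_cases hgood : ∀ Q', F.IsConj Q Q' → ∀ s : S, (s : Ω) ∈ centralizerIn S Q' → L.τ s = 1
  · refine ⟨ψ, hψ, ⟨r, hr, ?_⟩, he⟩
    have hgood' : ∀ Q', F.IsConj P Q' → ∀ s : S, (s : Ω) ∈ centralizerIn S Q' → L.τ s = 1 :=
      fun Q' hQ' => hgood Q' (isConj_trans (isConj_symm (isConj_iff.2 ⟨f, hf⟩)) hQ')
    obtain ⟨fi, hfi, hfi1, -⟩ := hf.symm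
    have h1 : Real P (fun x => fi (f x)) (e⁻¹ * r) :=
      (Real.comp (hψ.mono hPN) (hr.mono hPN) (Real.inv hf he' hfi1) fun x hx => by
        rw [he x hx]; exact hf.mem hx).congr fun x hx => by rw [he x hx]
    have h2 := L.D_eq_one_of_id hS h.pow_eq_one hf.le_left hgood' (h1.congr hfi1)
    rw [map_mul, map_inv, hd, inv_one, one_mul] at h2
    exact h2
  · obtain ⟨c, hc, hcτ⟩ := exists_centralizer h (receptive_of_fullyNormalized hS hF hR) hgood
    obtain ⟨i, hi⟩ := h.exists_pow_mul hcτ (L.D r)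
    refine ⟨fun x => ((c ^ i : S) : Ω) * ψ x * ((c ^ i : S) : Ω)⁻¹,
      hψ.comp (IsMap.conj le_rfl (c ^ i).2) fun x hx => hψ.mem hx,
      ⟨lft L.c (c ^ i) * r, Real.comp hψ hr (lft_real (c ^ i) S) fun x hx => hψ.mem hx, ?_⟩,
      fun x hx => ?_⟩
    · rw [map_mul, L.D_lft, map_pow]
      exact hi
    · show _ * ψ x * _ = f x
      rw [he x hx]
      refine centralizerIn_conj (S := S) ?_ (hf.mem hx)
      rw [Subgroup.coe_pow]
      exact Subgroup.pow_mem _ hc i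

theorem autGroup_step_iff (h : IsStep L p T) {R : Subgroup Ω} (hR : R ≤ T) {α : MulAut R} :
    α ∈ (stepSystem L T h.le fun u hu => (h.mem_iff u).2 hu).autGroup R ↔
      α ∈ F.autGroup R ∧ Zero L R (autFn α) := by
  rw [mem_autGroup_iff hR, mem_autGroup_iff (hR.trans h.le), isMap_step_iff]
  exact ⟨fun k => ⟨k.1, k.2.2.2⟩, fun k => ⟨k.1, hR, fun x hx => hR (autFn_mem α hx), k.2⟩⟩

theorem hasPPowerIndexIn_step (h : IsStep L p T) (hT : F.hyperfocalSubgroup p ≤ T) :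
    (stepSystem L T h.le fun u hu => (h.mem_iff u).2 hu).HasPPowerIndexIn F p := by
  refine ⟨isSubsystemOf_step _ _ _ _, hT, fun R hR => ?_⟩
  rw [Subgroup.map_le_iff_le_comap]
  refine (Subgroup.closure_le _).2 fun a ha => ?_
  have hm : (orderOf (a : MulAut R)).Coprime p := by
    rw [Subgroup.orderOf_coe]; exact ha
  refine (autGroup_step_iff h hR).2 ⟨a.2, ?_⟩
  obtain ⟨e, he⟩ := exists_real L.stable ((mem_autGroup_iff (hR.trans h.le)).1 a.2)
  obtain ⟨i, hi1, hi0⟩ := Nat.chineseRemainder hm 1 0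
  have hpi : p ∣ i := Nat.modEq_zero_iff_dvd.1 hi0
  refine ⟨e ^ i, ?_, ?_⟩
  · have h1 := Real.pow (hR.trans h.le) a.2 he i
    have h2 : (a : MulAut R) ^ i = a :=
      (pow_eq_pow_iff_modEq.2 hi1).trans (pow_one _)
    rw [h2] at h1
    exact h1
  · rw [map_pow]
    obtain ⟨j, rfl⟩ := hpi
    rw [pow_mul, h.pow_eq_one, one_pow]

include hS hF in
theorem isSaturated_step (h : IsStep L p T) :
    (stepSystem L T h.le fun u hu => (h.mem_iff u).2 hu).IsSaturated p := by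
  intro P hP
  haveI : Finite T := finite_of_le h.le
  have hPS := hP.trans h.le
  obtain ⟨R₀, hPR₀, hR₀⟩ := exists_fullyNormalized F hPS
  obtain ⟨f, hf⟩ := isConj_iff.1 hPR₀
  obtain ⟨e, he⟩ := exists_real L.stable hf.1
  -- adjust by an element of `S`
  obtain ⟨s, hs⟩ : ∃ s : S, L.τ s ^ Fintype.card (ROrb L.c) * L.D e = 1 := by
    by_cases hex : ∃ s : S, L.τ s ≠ 1
    · obtain ⟨s, hs⟩ := hex
      obtain ⟨i, hi⟩ := h.exists_pow_mul hs (L.D e)
      exact ⟨s ^ i, by rw [map_pow]; exact hi⟩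
    · simp only [not_exists, not_not] at hex
      refine ⟨1, ?_⟩
      rw [map_one, one_pow, one_mul]
      refine L.D_eq_one_of_id hS h.pow_eq_one bot_le (fun _ _ s _ => hex s) ?_
      intro u v hu hv x
      have hu1 : u = 1 := Subtype.ext (Subgroup.mem_bot.1 hu)
      rw [show v = u from Subtype.ext hv, hu1]
      show e.1 (((1 : S), (1 : S)) • x) = ((1 : S), (1 : S)) • e.1 x
      rw [req_right e]
  let f' := fun x => (s : Ω) * f x * (s : Ω)⁻¹
  have hf' : IsMap F P f' := hf.1.comp (IsMap.conj le_rfl s.2) fun x hx => hf.1.mem hx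
  set R := img f' P with hRdef
  have hPR : IsIso F P R f' := hf'.isIso
  have hzero : Zero L P f' :=
    ⟨lft L.c s * e, Real.comp hf.1 he (lft_real s S) fun x hx => hf.1.mem hx, by
      rw [map_mul, L.D_lft]; exact hs⟩
  have hRT : R ≤ T := hf'.img_le le_rfl fun x hx => h.map_mem hf' hx (hP hx)
  have hR : F.IsFullyNormalized R := by
    refine ⟨hPR.le_right, fun X hX => ?_⟩
    refine (hR₀.2 X (isConj_trans (isConj_symm hPR₀)
      (isConj_trans (isConj_iff.2 ⟨f', hPR⟩) hX))).trans ?_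
    have hc : IsMap F S (fun x => (s : Ω) * x * (s : Ω)⁻¹) := IsMap.conj le_rfl s.2
    have hNS : normalizerIn S R₀ ≤ S := inf_le_left
    haveI : Finite R := finite_of_le hPR.le_right
    rw [← (hc.mono hNS).card_img le_rfl]
    haveI : Finite (normalizerIn S R) := finite_of_le inf_le_left
    refine Subgroup.card_le_of_le ((hc.mono hNS).img_le le_rfl fun g hg => ?_)
    refine map_normalizerIn hc hR₀.1 ?_ (hNS hg) hg
    refine IsIso.img_eq_of hc hR₀.1 (fun y hy => ?_) fun z hz => ?_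
    · obtain ⟨x, hx, rfl⟩ := hf.exists_eq hy
      exact hPR.mem hx
    · obtain ⟨x, hx, rfl⟩ := hPR.exists_eq hz
      exact ⟨f x, hf.mem hx, rfl⟩
  refine ⟨R, isConj_iff.2 ⟨f', isMap_step_iff.2
    ⟨hf', hP, fun x hx => hRT (hPR.mem hx), hzero⟩, rfl⟩, ?_, ?_⟩
  · -- fully automized
    have := finite_mulAut hR.1
    refine isFullyAutomized_iff.2 ⟨hRT, autInducedBy_le_autGroup _ le_rfl hRT,
      isPGroup_autInducedBy (hS.to_le h.le), fun C hTC hCE hCp => ?_⟩
    have hCF : C ≤ F.autGroup R :=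
      hCE.trans (FusionNormal.autGroup_le_of_sub (isSubsystemOf_step _ _ _ _) hRT)
    obtain ⟨a, ha, haC⟩ := (isFullyAutomized_iff.1
      (fullyAutomized_of_fullyNormalized hS hF hR)).2.exists_conj_le hCp hCF
    have hconj : C.map (MulAut.conj a).toMonoidHom ≤ autInducedBy T R := by
      rintro _ ⟨b, hb, rfl⟩
      have hb' : a * b * a⁻¹ ∈ autInducedBy S R := haC b hb
      obtain ⟨g, hg, hge⟩ := mem_autInducedBy_iff.1 hb'
      obtain ⟨hbF, r, hr, hrd⟩ := (autGroup_step_iff h hRT).1 (hCE hb)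
      obtain ⟨q, hq⟩ := exists_real L.stable ((mem_autGroup_iff hR.1).1 ha)
      have hq' : Real R (autFn a⁻¹) q⁻¹ :=
        Real.inv (isIso_autFn hR.1 ha) hq fun x hx => by
          rw [autFn_apply a hx, autFn_apply _ (a ⟨x, hx⟩).2, MulAut.inv_apply_self]
      have hreal : Real R (fun x => g * x * g⁻¹) (q * (r * q⁻¹)) := by
        refine (Real.comp (F := F) ?_ (Real.comp ((mem_autGroup_iff hR.1).1 (inv_mem ha)) hq' hr
          fun x hx => autFn_mem _ hx) hq fun x hx => autFn_mem b (autFn_mem _ hx)).congr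
          fun x hx => ?_
        · exact ((mem_autGroup_iff hR.1).1 (inv_mem ha)).comp ((mem_autGroup_iff hR.1).1 hbF)
            fun x hx => autFn_mem _ hx
        · rw [autFn_apply _ hx, autFn_apply b (a⁻¹ ⟨x, hx⟩).2, autFn_apply a (b _).2,
            ← hge ⟨x, hx⟩]
          rfl
      have hd1 : L.D (q * (r * q⁻¹)) = 1 := by
        rw [map_mul, map_mul, map_inv, hrd, one_mul, mul_inv_cancel]
      by_cases hgood : ∀ Q', F.IsConj R Q' → ∀ t : S, (t : Ω) ∈ centralizerIn S Q' → L.τ t = 1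
      · refine mem_autInducedBy_iff.2 ⟨g, ?_, hge⟩
        have h2 := L.D_eq_one_of_id hS h.pow_eq_one hR.1 hgood
          ((Real.comp (F := F) (IsMap.conj hR.1 hg) hreal
            (Real.inv (F := F) (P := R) (Q := R) (f := fun x => g * x * g⁻¹)
              ((isIso_autFn hR.1 (autInducedBy_le_autGroup F le_rfl hR.1 hb')).congr fun x hx => by
                rw [autFn_apply _ hx]; exact hge ⟨x, hx⟩)
              (lft_real ⟨g, hg⟩ R) (g := fun x => g⁻¹ * x * g) fun x _ => by group)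
            fun x hx => by rw [← hge ⟨x, hx⟩]; exact SetLike.coe_mem _).congr
              fun x _ => by group)
        rw [map_mul, map_inv, hd1, mul_one, inv_eq_one, L.D_lft] at h2
        exact (h.mem_iff ⟨g, hg⟩).1 (h.eq_one_of_pow h2)
      · obtain ⟨c, hc, hcτ⟩ := exists_centralizer h (receptive_of_fullyNormalized hS hF hR) hgood
        obtain ⟨i, hi⟩ := h.exists_pow_mul hcτ (L.τ (⟨g, hg⟩ : S) ^ Fintype.card (ROrb L.c))
        refine mem_autInducedBy_iff.2 ⟨((c ^ i * ⟨g, hg⟩ : S) : Ω), ?_, fun x => ?_⟩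
        · refine (h.mem_iff _).1 (h.eq_one_of_pow ?_)
          rw [map_mul, map_pow, mul_pow]
          exact hi
        · show (((a * b * a⁻¹) x : R) : Ω) = _
          rw [hge x, Subgroup.coe_mul, Subgroup.coe_pow]
          have h3 : (c : Ω) ^ i * (g * x * g⁻¹) * ((c : Ω) ^ i)⁻¹ = g * x * g⁻¹ := by
            refine centralizerIn_conj (S := S) (Subgroup.pow_mem _ hc i) ?_
            rw [← hge x]
            exact SetLike.coe_mem _
          rw [show (c : Ω) ^ i * g * (x : Ω) * ((c : Ω) ^ i * g)⁻¹ =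
            (c : Ω) ^ i * (g * x * g⁻¹) * ((c : Ω) ^ i)⁻¹ by group, h3]
    haveI : Finite C := inferInstance
    refine (Subgroup.eq_of_le_of_card_ge hTC ?_).symm
    rw [← Subgroup.card_map_of_injective (f := (MulAut.conj a).toMonoidHom) (MulAut.conj a).injective]
    exact Subgroup.card_le_of_le hconj
  · -- receptive
    refine isReceptive_iff.2 ⟨hRT, fun X g hg => ?_⟩
    obtain ⟨hgF, hXT, -, hgz⟩ := isMap_step_iff.1 hg.1
    have hgI : IsIso F X R g := ⟨hgF, hg.2⟩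
    obtain ⟨ψ, hψ, hψe⟩ :=
      (isReceptive_iff.1 (receptive_of_fullyNormalized hS hF hR)).2 X g hgI
    have hle : Nx T X g ≤ Nx S X g := by
      rintro y ⟨hy, w, hw, hwe⟩
      exact mem_Nx.2 ⟨⟨h.le hy.1, hy.2⟩, w, h.le hw, hwe⟩
    have hXN : X ≤ Nx T X g := le_Nx hg.1
    obtain ⟨χ, hχ, hχz, hχe⟩ := exists_zero_extension hS hF h hR hgI hgz (hψ.mono hle) hXN hψe
    have hNT : Nx T X g ≤ T := fun y hy => hy.1.1
    exact ⟨χ, isMap_step_iff.2 ⟨hχ, hNT, fun y hy => h.map_mem hχ hy (hNT hy), hχz⟩, hχe⟩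

end Prime

/-- The subsystem on a subgroup of index `p`. -/
theorem exists_step {p : ℕ} [Fact p.Prime] (hS : IsPGroup p S) (hF : F.IsSaturated p)
    {M : Subgroup S} [M.Normal] (hM : M.index = p)
    (hhyp : (F.hyperfocalSubgroup p).subgroupOf S ≤ M) :
    ∃ E : FusionSystem (M.map S.subtype), E.IsSaturated p ∧ E.HasPPowerIndexIn F p := by
  have hcard : Nat.card (S ⧸ M) = p := by rw [← Subgroup.index_eq_card, hM]
  letI : CommGroup (S ⧸ M) :=
    { (inferInstance : Group (S ⧸ M)) with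
      mul_comm := fun a b => by
        haveI : IsCyclic (S ⧸ M) := isCyclic_of_prime_card (p := p) hcard
        obtain ⟨g, hg⟩ := IsCyclic.exists_generator (α := S ⧸ M)
        obtain ⟨m, rfl⟩ := Subgroup.mem_zpowers_iff.1 (hg a)
        obtain ⟨n, rfl⟩ := Subgroup.mem_zpowers_iff.1 (hg b)
        rw [← zpow_add, ← zpow_add, add_comm] }
  let τ : S →* S ⧸ M := QuotientGroup.mk' M
  have hτhyp : ∀ u : S, (u : Ω) ∈ F.hyperfocalSubgroup p → τ u = 1 :=
    fun u hu => (QuotientGroup.eq_one_iff u).2 (hhyp hu)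
  obtain ⟨c, hc, hdeg⟩ := exists_characteristic hS hF
  obtain ⟨Γ, hΓ⟩ := FusionTate.exists_label hS hF hc.1 τ hτhyp
  let L : Label F (S ⧸ M) :=
    { c := c
      stable := hc
      τ := τ
      Γ := Γ
      Γ_smul := hΓ
      τ_map := fun hf u v hu hv => by
        obtain ⟨γ, hγ⟩ := FusionTate.exists_conj_mod_hyperfocal hS hF τ hτhyp hf
        rw [hγ u v hu hv, map_mul, map_mul, map_inv, mul_comm (τ γ), mul_inv_cancel_right] }
  have h : IsStep L p (M.map S.subtype) :=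
    { le := Subgroup.map_subtype_le M
      mem_iff := fun u => (QuotientGroup.eq_one_iff u).trans
        ⟨fun hu => ⟨u, hu, rfl⟩, fun ⟨w, hw, he⟩ => (Subtype.ext he : w = u) ▸ hw⟩
      card := hcard
      deg := FusionTate.not_dvd_card_rorb hc.1 hdeg }
  refine ⟨_, isSaturated_step hS hF h, hasPPowerIndexIn_step h fun y hy => ?_⟩
  exact ⟨⟨y, FusionNormal.hyperfocal_le F hy⟩, hhyp hy, rfl⟩

end Cfsg.Agent.FusionPIndex
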